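import Mathlib

/-!
A finite group is not equally partitioned by self-centralising subgroups of mixed order.
-/

set_option autoImplicit false

namespace Cfsg.Agent.Lib.ClassSizeIto

open Subgroup
open scoped Pointwise

variable {X : Type*} [Group X] [Finite X]

/-- A partition of `X` into subgroups of order `k`, each containing the coprime centralisers of
its nontrivial elements. -/
structure EqPart (X : Type*) [Group X] (n k : ℕ) where
  K : X → Subgroup X
  hn : 1 < n
  hcard : Nat.card X = n * k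
  mem : ∀ x : X, x ≠ 1 → x ∈ K x
  card : ∀ x : X, x ≠ 1 → Nat.card (K x) = k
  comm : ∀ x : X, x ≠ 1 → ∀ a ∈ K x, ∀ b ∈ K x, a * b = b * a
  eq_of_mem : ∀ x y : X, x ≠ 1 → y ∈ K x → y ≠ 1 → K y = K x
  conj : ∀ g x : X, x ≠ 1 → K (g * x * g⁻¹) = MulAut.conj g • K x
  cent : ∀ p q : ℕ, p.Prime → q.Prime → p ≠ q → ∀ x y : X, x ≠ 1 →
    (∃ i, orderOf x = q ^ i) → (∃ j, orderOf y = p ^ j) → y * x = x * y → y ∈ K x

namespace EqPart

variable {n k : ℕ} (P : EqPart X n k)
include P

theorem eq_of_common {x y t : X} (hx : x ≠ 1) (hy : y ≠ 1) (h1 : t ∈ P.K x) (h2 : t ∈ P.K y)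
    (ht : t ≠ 1) : P.K x = P.K y :=
  (P.eq_of_mem x t hx h1 ht).symm.trans (P.eq_of_mem y t hy h2 ht)

/-- The members of the partition. -/
def parts : Set (Subgroup X) := {L | ∃ x : X, x ≠ 1 ∧ P.K x = L}

theorem card_parts_mul : Nat.card (parts P) * (k - 1) = n * k - 1 := by
  classical
  haveI : Fintype X := Fintype.ofFinite X
  haveI : Fintype (Subgroup X) := Fintype.ofFinite _
  have h := Finset.card_eq_sum_card_fiberwise
    (f := P.K) (s := Finset.univ.filter fun x : X => x ≠ 1)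
    (t := (parts P).toFinset) (fun x hx => by
      rw [Finset.mem_coe, Finset.mem_filter] at hx
      rw [Finset.mem_coe, Set.mem_toFinset]
      exact ⟨x, hx.2, rfl⟩)
  have hfib : ∀ L ∈ (parts P).toFinset,
      ((Finset.univ.filter fun x : X => x ≠ 1).filter fun x => P.K x = L).card = k - 1 := by
    intro L hL
    rw [Set.mem_toFinset] at hL
    obtain ⟨x, hx, rfl⟩ := hL
    have e : ((Finset.univ.filter fun y : X => y ≠ 1).filter fun y => P.K y = P.K x) =
        (Finset.univ.filter fun y : X => y ∈ P.K x).erase 1 := by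
      ext y
      simp only [Finset.mem_filter, Finset.mem_univ, true_and, Finset.mem_erase]
      exact ⟨fun ⟨h1, h2⟩ => ⟨h1, h2 ▸ P.mem y h1⟩, fun ⟨h1, h2⟩ => ⟨h1, P.eq_of_mem x y hx h2 h1⟩⟩
    rw [e, Finset.card_erase_of_mem (by simp [one_mem]), ← Fintype.card_subtype,
      ← Nat.card_eq_fintype_card]
    exact congrArg (· - 1) (P.card x hx)
  rw [Finset.sum_congr rfl hfib, Finset.sum_const, smul_eq_mul, Finset.filter_ne',
    Finset.card_erase_of_mem (Finset.mem_univ _), Finset.card_univ, ← Nat.card_eq_fintype_card,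
    P.hcard] at h
  rw [Nat.card_eq_fintype_card, ← Set.toFinset_card]
  exact h.symm

theorem exists_normalized {p : ℕ} [Fact p.Prime] (hpk : p ∣ k) (S : Sylow p X) :
    ∃ x : X, x ≠ 1 ∧ ∀ g ∈ (S : Subgroup X), MulAut.conj g • P.K x = P.K x := by
  classical
  letI : MulAction S (parts P) :=
    { smul := fun g L => ⟨MulAut.conj (g : X) • (L : Subgroup X), by
        obtain ⟨x, hx, hxL⟩ := L.2
        exact ⟨g * x * (g : X)⁻¹, fun h => hx (conj_eq_one_iff.1 h), by rw [P.conj _ _ hx, hxL]⟩⟩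
      one_smul := fun L => Subtype.ext (by
        show MulAut.conj ((1 : S) : X) • (L : Subgroup X) = L
        rw [OneMemClass.coe_one, map_one, one_smul])
      mul_smul := fun g h L => Subtype.ext (by
        show MulAut.conj ((g * h : S) : X) • (L : Subgroup X) =
          MulAut.conj (g : X) • MulAut.conj (h : X) • (L : Subgroup X)
        rw [Subgroup.coe_mul, map_mul, mul_smul]) }
  have hnd : ¬ p ∣ Nat.card (parts P) := by
    intro hd
    have h1 : p ∣ n * k - 1 := P.card_parts_mul ▸ dvd_mul_of_dvd_left hd _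
    have h2 : p ∣ n * k := dvd_mul_of_dvd_right hpk _
    have h3 : 1 ≤ n * k := by rw [← P.hcard]; exact Nat.card_pos
    have h4 := Nat.dvd_sub h2 h1
    rw [show n * k - (n * k - 1) = 1 by omega] at h4
    exact (Fact.out : p.Prime).ne_one (Nat.dvd_one.1 h4)
  haveI : Finite (parts P) := Subtype.finite
  obtain ⟨L, hL⟩ := S.isPGroup'.nonempty_fixed_point_of_prime_not_dvd_card (parts P) hnd
  obtain ⟨x, hx, hxL⟩ := L.2
  refine ⟨x, hx, fun g hg => ?_⟩
  rw [hxL]
  exact congrArg Subtype.val (hL ⟨g, hg⟩)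

theorem exists_not_conj (hk : 1 < k) {x : X} (hx : x ≠ 1) :
    ∃ y : X, y ≠ 1 ∧ ∀ g : X, MulAut.conj g • P.K x ≠ P.K y := by
  classical
  by_contra hno
  push Not at hno
  have hle : Nat.card (parts P) ≤ Nat.card (X ⧸ P.K x) := by
    refine Nat.card_le_card_of_surjective (fun q => Quotient.liftOn' q
      (fun g : X => (⟨MulAut.conj g • P.K x, g * x * g⁻¹, fun h => hx (conj_eq_one_iff.1 h),
        P.conj g x hx⟩ : parts P)) ?_) ?_
    · intro a b hab
      rw [QuotientGroup.leftRel_apply] at hab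
      apply Subtype.ext
      show MulAut.conj a • P.K x = MulAut.conj b • P.K x
      have : MulAut.conj (a⁻¹ * b) • P.K x = P.K x := Subgroup.conj_smul_eq_self_of_mem hab
      rw [map_mul, mul_smul, map_inv, inv_smul_eq_iff] at this
      exact this.symm
    · rintro ⟨L, y, hy, rfl⟩
      obtain ⟨g, hg⟩ := hno y hy
      exact ⟨QuotientGroup.mk g, Subtype.ext hg⟩
  have hidx : Nat.card (X ⧸ P.K x) = n := by
    have := (P.K x).card_mul_index
    rw [P.card x hx, P.hcard, mul_comm n k] at this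
    rw [← index_eq_card]
    exact Nat.eq_of_mul_eq_mul_left (by omega) this
  rw [hidx] at hle
  have h1 := Nat.mul_le_mul_right (k - 1) hle
  rw [P.card_parts_mul, Nat.mul_sub_one] at h1
  have h2 : n ≤ n * k := Nat.le_mul_of_pos_right _ (by omega)
  have := P.hn
  omega

omit P in
/-- The `p`-elements of an abelian subgroup form a subgroup of full `p`-order. -/
theorem exists_primary (L : Subgroup X) (hc : ∀ a ∈ L, ∀ b ∈ L, a * b = b * a) (p : ℕ)
    [Fact p.Prime] : ∃ R : Subgroup X, R ≤ L ∧ Nat.card R = p ^ (Nat.card L).factorization p ∧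
      ∀ t : X, t ∈ R ↔ t ∈ L ∧ ∃ i : ℕ, t ^ p ^ i = 1 := by
  obtain ⟨Q⟩ : Nonempty (Sylow p L) := inferInstance
  haveI : (Q : Subgroup L).Normal := ⟨fun a ha g => by
    have : g * a * g⁻¹ = a := by
      apply Subtype.ext
      show (g : X) * a * (g : X)⁻¹ = a
      rw [hc g g.2 a a.2, mul_inv_cancel_right]
    rwa [this]⟩
  refine ⟨(Q : Subgroup L).map L.subtype, map_subtype_le _, ?_, fun t => ⟨?_, ?_⟩⟩
  · rw [card_map_of_injective L.subtype_injective, Q.card_eq_multiplicity]
  · rintro ⟨s, hs, rfl⟩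
    obtain ⟨i, hi⟩ := Q.isPGroup' ⟨s, hs⟩
    exact ⟨s.2, i, congrArg (fun x : L => (x : X)) (congrArg Subtype.val hi)⟩
  · rintro ⟨htL, i, hi⟩
    refine ⟨⟨t, htL⟩, ?_, rfl⟩
    have hz : IsPGroup p (zpowers (⟨t, htL⟩ : L)) := by
      rintro ⟨_, j, rfl⟩
      refine ⟨i, Subtype.ext ?_⟩
      show ((⟨t, htL⟩ : L) ^ j) ^ (p ^ i) = 1
      rw [← zpow_natCast, ← zpow_mul, mul_comm, zpow_mul, zpow_natCast]
      rw [show (⟨t, htL⟩ : L) ^ p ^ i = 1 from Subtype.ext hi, one_zpow]
    obtain ⟨Q', hQ'⟩ := hz.exists_le_sylow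
    haveI := Sylow.unique_of_normal Q inferInstance
    rw [Subsingleton.elim Q Q']
    exact hQ' (mem_zpowers _)

/-- Bounds from a Sylow subgroup normalising a member of the partition. -/
theorem pow_factorization_lt {p q : ℕ} (hp : p.Prime) (hq : q.Prime) (hpq : p ≠ q) (hpk : p ∣ k)
    (hqk : q ∣ k) : p ^ k.factorization p < q ^ k.factorization q := by
  classical
  haveI := Fact.mk hp
  haveI := Fact.mk hq
  have hk0 : k ≠ 0 := by
    intro h
    have := P.hcard
    rw [h, mul_zero] at this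
    exact Nat.card_pos.ne' this
  have hn0 : n ≠ 0 := (zero_lt_one.trans P.hn).ne'
  have hk1 : 1 < k := hp.one_lt.trans_le (Nat.le_of_dvd (Nat.pos_of_ne_zero hk0) hpk)
  obtain ⟨S⟩ : Nonempty (Sylow p X) := inferInstance
  obtain ⟨x, hx, hnorm⟩ := P.exists_normalized hpk S
  set L := P.K x with hL
  have hLk : Nat.card L = k := P.card x hx
  set a := n.factorization p
  set b := k.factorization p
  have hScard : Nat.card S = p ^ (a + b) := by
    rw [S.card_eq_multiplicity, P.hcard, Nat.factorization_mul hn0 hk0]; rfl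
  have hconjL : ∀ g ∈ (S : Subgroup X), ∀ t ∈ L, g * t * g⁻¹ ∈ L := by
    intro g hg t ht
    rw [← hnorm g hg]
    exact ⟨t, ht, rfl⟩
  obtain ⟨Rp, hRpL, hRpc, hRp⟩ := exists_primary L (P.comm x hx) p
  obtain ⟨Rq, hRqL, hRqc, hRq⟩ := exists_primary L (P.comm x hx) q
  rw [hLk] at hRpc hRqc
  have hconjR : ∀ (r : ℕ) (R : Subgroup X), (∀ t, t ∈ R ↔ t ∈ L ∧ ∃ i : ℕ, t ^ r ^ i = 1) →
      ∀ g ∈ (S : Subgroup X), ∀ t ∈ R, g * t * g⁻¹ ∈ R := by
    intro r R hR g hg t ht
    obtain ⟨htL, i, hi⟩ := (hR t).1 ht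
    exact (hR _).2 ⟨hconjL g hg t htL, i, by rw [conj_pow, hi, mul_one, mul_inv_cancel]⟩
  -- the `p`-part of `L` lies in `S`
  have hRpS : Rp ≤ (S : Subgroup X) := by
    have hnm : (S : Subgroup X) ≤ normalizer (Rp : Set X) := by
      intro g hg
      rw [mem_normalizer_iff]
      intro t
      refine ⟨hconjR p Rp hRp g hg t, fun ht => ?_⟩
      have := hconjR p Rp hRp g⁻¹ (inv_mem hg) _ ht
      simpa [mul_assoc] using this
    have hsup : IsPGroup p ((S : Subgroup X) ⊔ Rp : Subgroup X) :=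
      S.isPGroup'.to_sup_of_normal_right' (IsPGroup.of_card hRpc) hnm
    exact (S.is_maximal' hsup le_sup_left) ▸ le_sup_right
  obtain ⟨t, ht, ht1⟩ : ∃ t ∈ Rq, t ≠ 1 := by
    refine (bot_or_exists_ne_one Rq).resolve_left fun h => ?_
    rw [h, card_bot] at hRqc
    have := Nat.one_lt_pow (hq.factorization_pos_of_dvd hk0 hqk).ne' hq.one_lt
    omega
  set C := centralizer ({t} : Set X) with hC
  obtain ⟨htL, i, hi⟩ := (hRq t).1 ht
  have hstab : (S : Subgroup X) ⊓ C ≤ L := by
    intro g hg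
    obtain ⟨hgS, hgC⟩ := mem_inf.1 hg
    obtain ⟨j, hj⟩ := IsPGroup.iff_orderOf.1 S.isPGroup' ⟨g, hgS⟩
    rw [Subgroup.orderOf_mk] at hj
    obtain ⟨i', -, hi'⟩ := (Nat.dvd_prime_pow hq).1 (orderOf_dvd_of_pow_eq_one hi)
    rw [hL, ← P.eq_of_mem x t hx htL ht1]
    exact P.cent p q hp hq hpq t g ht1 ⟨i', hi'⟩ ⟨j, hj⟩ (mem_centralizer_singleton_iff.1 hgC)
  have hstab' : (S : Subgroup X) ⊓ C ≤ Rp := by
    intro g hg
    obtain ⟨j, hj⟩ := S.isPGroup' ⟨g, (mem_inf.1 hg).1⟩
    exact (hRp g).2 ⟨hstab hg, j, congrArg Subtype.val hj⟩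
  have hidx : p ^ a ≤ C.relIndex (S : Subgroup X) := by
    have h1 := relIndex_mul_relIndex ⊥ ((S : Subgroup X) ⊓ C) S bot_le inf_le_left
    rw [relIndex_bot_left, relIndex_bot_left, hScard, inf_comm, inf_relIndex_right, inf_comm,
      pow_add] at h1
    have h2 : Nat.card ((S : Subgroup X) ⊓ C : Subgroup X) ≤ p ^ b :=
      hRpc ▸ Nat.le_of_dvd Nat.card_pos (card_dvd_of_le hstab')
    by_contra h3
    have := Nat.mul_lt_mul_of_le_of_lt h2 (not_le.1 h3) (pow_pos hp.pos b)
    rw [h1, mul_comm] at this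
    exact lt_irrefl _ this
  have horb : C.relIndex (S : Subgroup X) < Nat.card Rq := by
    haveI : Fintype X := Fintype.ofFinite X
    let F : (S : Subgroup X) ⧸ C.subgroupOf S → Rq := fun c => Quotient.liftOn' c
      (fun g : (S : Subgroup X) =>
        (⟨(g : X) * t * (g : X)⁻¹, hconjR q Rq hRq g g.2 t ht⟩ : Rq)) (by
        intro g g' hgg
        rw [QuotientGroup.leftRel_apply, mem_subgroupOf, hC, mem_centralizer_singleton_iff] at hgg
        apply Subtype.ext
        have e : (g : X)⁻¹ * g' * t * ((g : X)⁻¹ * g')⁻¹ = t := by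
          rw [mul_inv_eq_iff_eq_mul]; exact hgg
        calc (g : X) * t * (g : X)⁻¹ = g * ((g : X)⁻¹ * g' * t * ((g : X)⁻¹ * g')⁻¹) * (g : X)⁻¹ := by
              rw [e]
          _ = g' * t * (g' : X)⁻¹ := by group)
    have hFinj : Function.Injective F := by
      intro c c'
      induction c using QuotientGroup.induction_on with
      | _ g =>
        induction c' using QuotientGroup.induction_on with
        | _ g' =>
          intro e
          have e' : (g : X) * t * (g : X)⁻¹ = g' * t * (g' : X)⁻¹ := congrArg Subtype.val e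
          rw [QuotientGroup.eq, mem_subgroupOf, hC, mem_centralizer_singleton_iff,
            ← mul_inv_eq_iff_eq_mul]
          calc (g : X)⁻¹ * g' * t * ((g : X)⁻¹ * g')⁻¹ = (g : X)⁻¹ * (g' * t * (g' : X)⁻¹) * g := by
                group
            _ = t := by rw [← e']; group
    haveI := Fintype.ofFinite ((S : Subgroup X) ⧸ C.subgroupOf S)
    haveI := Fintype.ofFinite Rq
    show (C.subgroupOf (S : Subgroup X)).index < _
    rw [index_eq_card, Nat.card_eq_fintype_card, Nat.card_eq_fintype_card]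
    refine Fintype.card_lt_of_injective_of_notMem F hFinj (b := 1) ?_
    rintro ⟨c, hc⟩
    induction c using QuotientGroup.induction_on with
    | _ g => exact ht1 (conj_eq_one_iff.1 (congrArg Subtype.val hc))
  -- a member of the partition not conjugate to `L` embeds into `S` modulo `L`
  obtain ⟨y, hy, hyn⟩ := P.exists_not_conj hk1 hx
  obtain ⟨D, hDL, hDc, hD⟩ := exists_primary (P.K y) (P.comm y hy) p
  rw [P.card y hy] at hDc
  obtain ⟨S', hDS'⟩ := (IsPGroup.of_card hDc).exists_le_sylow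
  obtain ⟨g, hg⟩ := MulAction.exists_smul_eq X S' S
  have hgD : ∀ d ∈ D, g * d * g⁻¹ ∈ (S : Subgroup X) := by
    intro d hd
    rw [← hg, Sylow.coe_subgroup_smul, Subgroup.mem_pointwise_smul_iff_inv_smul_mem]
    simpa [MulAut.smul_def, mul_assoc] using hDS' hd
  have hba : p ^ b ≤ p ^ a := by
    have hinj : Function.Injective (fun dr : D × Rp =>
        (⟨g * (dr.1 : X) * g⁻¹ * (dr.2 : X),
          mul_mem (hgD _ dr.1.2) (hRpS dr.2.2)⟩ : (S : Subgroup X))) := by
      rintro ⟨d, r⟩ ⟨d', r'⟩ e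
      have e' : g * (d : X) * g⁻¹ * r = g * (d' : X) * g⁻¹ * r' := congrArg Subtype.val e
      have e1 : g * ((d' : X)⁻¹ * d) * g⁻¹ = (r' : X) * (r : X)⁻¹ := by
        calc g * ((d' : X)⁻¹ * d) * g⁻¹ = g * (d' : X)⁻¹ * g⁻¹ * (g * (d : X) * g⁻¹ * r) * (r : X)⁻¹ := by
              group
          _ = (r' : X) * (r : X)⁻¹ := by rw [e']; group
      have hone : (d' : X)⁻¹ * d = 1 := by
        by_contra hne
        apply hyn g⁻¹
        have hm : (d' : X)⁻¹ * d ∈ P.K y := hDL (mul_mem (inv_mem d'.2) d.2)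
        have h2 : g * ((d' : X)⁻¹ * d) * g⁻¹ ∈ L := by
          rw [e1]; exact hRpL (mul_mem r'.2 (inv_mem r.2))
        have h3 : P.K (g⁻¹ * (g * ((d' : X)⁻¹ * d) * g⁻¹) * g⁻¹⁻¹) = MulAut.conj g⁻¹ • L := by
          rw [P.conj _ _ (fun h => hne (conj_eq_one_iff.1 h)),
            P.eq_of_mem x _ hx h2 (fun h => hne (conj_eq_one_iff.1 h))]
        rw [← h3, ← P.eq_of_mem y _ hy hm hne]
        congr 1
        group
      rw [hone, mul_one, mul_inv_cancel] at e1
      exact Prod.ext (Subtype.ext (inv_mul_eq_one.1 hone).symm)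
        (Subtype.ext (mul_inv_eq_one.1 e1.symm).symm)
    have := Nat.card_le_card_of_injective _ hinj
    rw [Nat.card_prod, hDc, hRpc, hScard, pow_add] at this
    exact Nat.le_of_mul_le_mul_right this (pow_pos hp.pos b)
  calc p ^ b ≤ p ^ a := hba
    _ < q ^ k.factorization q := lt_of_le_of_lt hidx (hRqc ▸ horb)

end EqPart

end Cfsg.Agent.Lib.ClassSizeIto
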