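import Cfsg.Agent.Lib.ClassSizeIto.Partition
import Cfsg.Agent.Lib.ClassSizeTop.Basic

/-!
Groups with two class sizes (Ito, Isaacs).
-/

set_option autoImplicit false

namespace Cfsg.Agent.Lib.ClassSizeIto

open Subgroup Cfsg.Agent.Lib.ClassSizeTop
open scoped Pointwise

variable {G : Type*} [Group G] [Finite G]

section Primary

omit [Finite G] in
/-- Elements of coprime orders commuting modulo the centre commute. -/
theorem commute_of_mod_center {a b : G} (h : a * b * a⁻¹ * b⁻¹ ∈ center G)
    (hco : (orderOf a).Coprime (orderOf b)) : a * b = b * a := by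
  set c := a * b * a⁻¹ * b⁻¹ with hc
  have hab : a * b * a⁻¹ = c * b := by rw [hc]; group
  clear_value c
  have hcb : Commute c b := (mem_center_iff.1 h b).symm
  have h1 : c ^ orderOf b = 1 := by
    have := congrArg (· ^ orderOf b) hab
    simp only [conj_pow, pow_orderOf_eq_one, mul_one, mul_inv_cancel, hcb.mul_pow] at this
    exact this.symm
  have h2 : c ^ orderOf a = 1 := by
    have hit : ∀ i : ℕ, a ^ i * b * (a ^ i)⁻¹ = c ^ i * b := by
      intro i
      induction i with
      | zero => simp
      | succ i ih =>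
        calc a ^ (i + 1) * b * (a ^ (i + 1))⁻¹ = a * (a ^ i * b * (a ^ i)⁻¹) * a⁻¹ := by
              rw [pow_succ']; group
          _ = (a * c ^ i * a⁻¹) * (a * b * a⁻¹) := by rw [ih]; group
          _ = c ^ (i + 1) * b := by
              rw [hab, mem_center_iff.1 (pow_mem h i) a, mul_inv_cancel_right, pow_succ, mul_assoc]
    have := hit (orderOf a)
    rw [pow_orderOf_eq_one, one_mul, inv_one, mul_one] at this
    exact mul_right_cancel (this.symm.trans (one_mul b).symm)
  have h3 : c = 1 := orderOf_eq_one_iff.1 (Nat.eq_one_of_dvd_coprimes hco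
    (orderOf_dvd_of_pow_eq_one h2) (orderOf_dvd_of_pow_eq_one h1))
  rw [h3, one_mul, mul_inv_eq_iff_eq_mul] at hab
  exact hab

/-- A `q`-element of a central quotient has a `q`-element preimage. -/
theorem exists_primary_lift {q : ℕ} [hq : Fact q.Prime] (x : G ⧸ center G)
    (hx : ∃ i, orderOf x = q ^ i) :
    ∃ g : G, (QuotientGroup.mk g : G ⧸ center G) = x ∧ ∃ j, orderOf g = q ^ j := by
  induction x using QuotientGroup.induction_on with
  | _ g =>
    obtain ⟨i, hi⟩ := hx
    obtain ⟨a, b, he, -, hj, hb, -, hbz⟩ := ClassSize.exists_pParts (p := q) g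
    refine ⟨a, ?_, hj⟩
    suffices hb1 : (QuotientGroup.mk b : G ⧸ center G) = 1 by
      rw [he, QuotientGroup.mk_mul, hb1, mul_one]
    obtain ⟨l, hl⟩ := hbz
    have hl' : b = g ^ l := hl.symm
    have h1 : orderOf (QuotientGroup.mk b : G ⧸ center G) ∣ q ^ i := by
      refine orderOf_dvd_of_pow_eq_one ?_
      rw [hl', QuotientGroup.mk_zpow, ← zpow_natCast, ← zpow_mul, mul_comm, zpow_mul,
        zpow_natCast, ← hi, pow_orderOf_eq_one, one_zpow]
    exact orderOf_eq_one_iff.1 (Nat.eq_one_of_dvd_coprimes (hb.pow_right i)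
      (orderOf_map_dvd (QuotientGroup.mk' (center G)) b) h1)

end Primary

variable {n : ℕ} (hn : 1 < n) (h : ∀ x : G, idx x = 1 ∨ idx x = n)
include hn h

omit hn in
theorem idx_eq_n {x : G} (hx : x ∉ center G) : idx x = n :=
  (h x).resolve_left fun e => hx (idx_eq_one_iff.1 e)

omit hn in
theorem cent_eq_of_le_cent {x y : G} (hy : y ∉ center G)
    (hle : centralizer ({x} : Set G) ≤ centralizer ({y} : Set G)) :
    centralizer ({x} : Set G) = centralizer ({y} : Set G) := by
  refine eq_of_le_of_index_le hle ?_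
  show idx x ≤ idx y
  by_cases hx : x ∈ center G
  · rw [idx_eq_one_iff.2 hx]; exact idx_pos y
  · exact le_of_eq ((idx_eq_n h hx).trans (idx_eq_n h hy).symm)

/-- A prime not dividing `n` has central Sylow subgroups. -/
theorem central_of_not_dvd {p : ℕ} [Fact p.Prime] (hp : ¬ p ∣ n) {w : G} {k : ℕ}
    (hk : orderOf w = p ^ k) : w ∈ center G := by
  obtain ⟨P⟩ : Nonempty (Sylow p G) := inferInstance
  have htop : centralizer ((P : Subgroup G) : Set G) = ⊤ := by
    refine ClassSize.eq_top_of_forall_exists_conj_mem _ fun g => ?_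
    obtain ⟨Q, hQ⟩ := ClassSize.exists_sylow_le_centralizer (p := p) (x := g)
      (show ¬ p ∣ idx g by
        rcases h g with e | e <;> rw [e]
        · exact (Fact.out : p.Prime).not_dvd_one
        · exact hp)
    obtain ⟨x, hx⟩ := MulAction.exists_smul_eq G Q P
    refine ⟨x, ?_⟩
    rw [mem_centralizer_iff]
    intro v hv
    rw [← hx, SetLike.mem_coe, Sylow.coe_subgroup_smul,
      Subgroup.mem_pointwise_smul_iff_inv_smul_mem] at hv
    have hv' : x⁻¹ * v * x ∈ (Q : Subgroup G) := by simpa [MulAut.smul_def, mul_assoc] using hv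
    have h5 := mem_cent.1 (hQ hv')
    calc v * (x * g * x⁻¹) = x * (x⁻¹ * v * x * g) * x⁻¹ := by group
      _ = x * g * x⁻¹ * v := by rw [h5]; group
  have hP : (P : Subgroup G) ≤ center G := centralizer_eq_top_iff_subset.1 htop
  have hpg : IsPGroup p (zpowers w) := IsPGroup.of_card (n := k) (by rw [Nat.card_zpowers, hk])
  obtain ⟨Q, hQ⟩ := hpg.exists_le_sylow
  obtain ⟨g, hg⟩ := MulAction.exists_smul_eq G Q P
  have hgw : g * w * g⁻¹ ∈ (P : Subgroup G) := by
    rw [← hg, Sylow.coe_subgroup_smul, Subgroup.mem_pointwise_smul_iff_inv_smul_mem]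
    simpa [MulAut.smul_def, mul_assoc] using hQ (mem_zpowers w)
  simpa [mul_assoc] using Subgroup.Normal.conj_mem inferInstance _ (hP hgw) g⁻¹

theorem center_index_eq {x : G} (hx : x ∉ center G) :
    (center G).relIndex (centralizer ({x} : Set G)) * n = (center G).index := by
  have := relIndex_mul_index (H := center G) (K := centralizer ({x} : Set G))
    (fun z hz => mem_cent.2 (mem_center_iff.1 hz x).symm)
  rwa [show (centralizer ({x} : Set G)).index = n from idx_eq_n h hx] at this

theorem exists_noncentral_primary {x : G} (hx : x ∉ center G) {p : ℕ} [Fact p.Prime] {w : G}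
    (hw : w ∉ center G) {k : ℕ} (hk : orderOf w = p ^ k) :
    ∃ b ∈ centralizer ({x} : Set G), b ∉ center G ∧ ∃ j, orderOf b = p ^ j := by
  have hp : p.Prime := Fact.out
  have hrel : (center G).relIndex (centralizer ({x} : Set G)) =
      (center G).relIndex (centralizer ({w} : Set G)) :=
    Nat.eq_of_mul_eq_mul_right (zero_lt_one.trans hn)
      ((center_index_eq hn h hx).trans (center_index_eq hn h hw).symm)
  by_contra hno
  push Not at hno
  have hnd := not_dvd_relIndex_center (p := p) (H := centralizer ({x} : Set G))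
    (fun b hb ⟨j, hj⟩ => by_contra fun hbc => hno b hb hbc j hj)
  rw [hrel] at hnd
  have hmem := pow_index_mem ((center G).subgroupOf (centralizer ({w} : Set G)))
    ⟨w, mem_cent.2 rfl⟩
  have hwn : w ^ (center G).relIndex (centralizer ({w} : Set G)) ∈ center G :=
    mem_subgroupOf.1 hmem
  obtain ⟨l, hl⟩ := exists_pow_eq_self_of_coprime (x := w)
    (n := (center G).relIndex (centralizer ({w} : Set G))) (by
      rw [hk]; exact Nat.Coprime.pow_right _ ((hp.coprime_iff_not_dvd).2 hnd).symm)
  exact hw (hl ▸ pow_mem hwn l)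

/-- With noncentral elements for two primes every centraliser is abelian. -/
theorem cent_comm_of_two {p q : ℕ} (hp : p.Prime) (hq : q.Prime) (hpq : p ≠ q) {wp wq : G}
    (hwp : wp ∉ center G) (hwq : wq ∉ center G) (hwpo : ∃ i, orderOf wp = p ^ i)
    (hwqo : ∃ i, orderOf wq = q ^ i) {x : G} (hx : x ∉ center G) :
    ∀ a ∈ centralizer ({x} : Set G), ∀ b ∈ centralizer ({x} : Set G), a * b = b * a := by
  classical
  -- some primary part of `x` is noncentral
  obtain ⟨r, hr, hrd⟩ : ∃ r : ℕ, r.Prime ∧ r ∣ orderOf (QuotientGroup.mk x : G ⧸ center G) :=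
    Nat.exists_prime_and_dvd fun e => hx ((QuotientGroup.eq_one_iff x).1 (orderOf_eq_one_iff.1 e))
  haveI := Fact.mk hr
  haveI := Fact.mk hp
  haveI := Fact.mk hq
  obtain ⟨x1, x2, he, -, ⟨i, hi⟩, hx2, hz1, -⟩ := ClassSize.exists_pParts (p := r) x
  have hx1 : x1 ∉ center G := fun hh => by
    rw [he, QuotientGroup.mk_mul, (QuotientGroup.eq_one_iff x1).2 hh, one_mul] at hrd
    exact (Nat.Prime.coprime_iff_not_dvd hr).1 hx2.symm
      (hrd.trans (orderOf_map_dvd (QuotientGroup.mk' (center G)) x2))
  have hCeq := cent_eq_of_le_cent h hx1 (cent_le_cent_of_mem_zpowers hz1)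
  have key : ∀ a : G, a ∉ center G → ∀ s : ℕ, (∃ j, orderOf a = s ^ j) →
      ∀ b ∈ centralizer ({a} : Set G), (orderOf b).Coprime s →
      centralizer ({a} : Set G) ≤ centralizer ({b} : Set G) := by
    rintro a ha s ⟨j, hj⟩ b hb hbo
    have hc : Commute a b := (mem_cent.1 hb).symm
    have hco : (orderOf a).Coprime (orderOf b) := by rw [hj]; exact hbo.symm.pow_left j
    have hC := cent_mul_of_coprime hc hco
    have hle : centralizer ({a * b} : Set G) ≤ centralizer ({a} : Set G) := hC.trans_le inf_le_left
    exact (cent_eq_of_le_cent h ha hle) ▸ hC.trans_le inf_le_right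
  -- a noncentral element of another prime in the centraliser
  obtain ⟨s, hs, hsr, b, hb, hbc, hbo⟩ : ∃ s : ℕ, s.Prime ∧ s ≠ r ∧
      ∃ b ∈ centralizer ({x1} : Set G), b ∉ center G ∧ ∃ j, orderOf b = s ^ j := by
    by_cases hpr : p = r
    · obtain ⟨jq, hjq⟩ := hwqo
      exact ⟨q, hq, fun e => hpq (hpr.trans e.symm), exists_noncentral_primary hn h hx1 hwq hjq⟩
    · obtain ⟨jp, hjp⟩ := hwpo
      exact ⟨p, hp, hpr, exists_noncentral_primary hn h hx1 hwp hjp⟩
  have hbr : (orderOf b).Coprime r := by
    obtain ⟨j, hj⟩ := hbo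
    rw [hj]; exact ((Nat.coprime_primes hs hr).2 hsr).pow_left j
  have hbC := cent_eq_of_le_cent h hbc (key x1 hx1 r ⟨i, hi⟩ b hb hbr)
  have hall : ∀ c ∈ centralizer ({x1} : Set G),
      centralizer ({x1} : Set G) ≤ centralizer ({c} : Set G) := by
    intro c hc
    obtain ⟨c1, c2, rfl, -, ⟨j1, hj1⟩, hc2, hz1', hz2'⟩ := ClassSize.exists_pParts (p := r) c
    have e2 := key x1 hx1 r ⟨i, hi⟩ c2 ((zpowers_le.2 hc) hz2') hc2
    have e1 : centralizer ({x1} : Set G) ≤ centralizer ({c1} : Set G) := by
      rw [hbC]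
      refine key b hbc s hbo c1 ?_ ?_
      · rw [← hbC]; exact (zpowers_le.2 hc) hz1'
      · rw [hj1]; exact ((Nat.coprime_primes hr hs).2 hsr.symm).pow_left j1
    intro g hg
    rw [mem_cent, ← mul_assoc, mem_cent.1 (e1 hg), mul_assoc, mem_cent.1 (e2 hg), ← mul_assoc]
  intro a ha a' ha'
  rw [hCeq] at ha ha'
  exact mem_cent.1 (hall a' ha' ha)

/-- Only one prime has noncentral Sylow subgroups. -/
theorem unique_prime {p q : ℕ} (hp : p.Prime) (hq : q.Prime) (hpq : p ≠ q) {wp wq : G}
    (hwp : wp ∉ center G) (hwq : wq ∉ center G) (hwpo : ∃ i, orderOf wp = p ^ i)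
    (hwqo : ∃ i, orderOf wq = q ^ i) : False := by
  classical
  have hcomm := fun (x : G) (hx : x ∉ center G) =>
    cent_comm_of_two hn h hp hq hpq hwp hwq hwpo hwqo hx
  set π := QuotientGroup.mk' (center G) with hπ
  have hπker : π.ker = center G := QuotientGroup.ker_mk' _
  let K : G ⧸ center G → Subgroup (G ⧸ center G) := fun q =>
    (centralizer ({q.out} : Set G)).map π
  have hK : ∀ g : G, K (QuotientGroup.mk g) = (centralizer ({g} : Set G)).map π := by
    intro g
    obtain ⟨z, hz⟩ := QuotientGroup.mk_out_eq_mul (center G) g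
    show (centralizer ({(QuotientGroup.mk g : G ⧸ center G).out} : Set G)).map π = _
    rw [hz, show g * (z : G) = (z : G) * g from mem_center_iff.1 z.2 g, cent_mul_central z.2]
  have hne : ∀ g : G, (QuotientGroup.mk g : G ⧸ center G) ≠ 1 → g ∉ center G := fun g hg hc =>
    hg ((QuotientGroup.eq_one_iff g).2 hc)
  have hle : ∀ g : G, π.ker ≤ centralizer ({g} : Set G) := fun g z hz =>
    mem_cent.2 (mem_center_iff.1 (hπker.le hz) g).symm
  set k := (center G).relIndex (centralizer ({wp} : Set G)) with hk
  have hidxc : (center G).index = n * k := by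
    rw [← center_index_eq hn h hwp, mul_comm]
  have hcardK : ∀ g : G, g ∉ center G → Nat.card ((centralizer ({g} : Set G)).map π) = k := by
    intro g hg
    have h1 := ((centralizer ({g} : Set G)).map π).card_mul_index
    rw [index_map_eq _ (QuotientGroup.mk'_surjective _) (hle g),
      show (centralizer ({g} : Set G)).index = n from idx_eq_n h hg, ← index_eq_card, hidxc,
      mul_comm n k] at h1
    exact Nat.eq_of_mul_eq_mul_right (zero_lt_one.trans hn) h1
  let P : EqPart (G ⧸ center G) n k :=
    { K := K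
      hn := hn
      hcard := by rw [← index_eq_card, hidxc]
      mem := fun x _ => by
        induction x using QuotientGroup.induction_on with
        | _ g => rw [hK]; exact mem_map_of_mem π (mem_cent.2 rfl)
      card := fun x hx => by
        induction x using QuotientGroup.induction_on with
        | _ g => rw [hK]; exact hcardK g (hne g hx)
      comm := fun x hx => by
        induction x using QuotientGroup.induction_on with
        | _ g =>
          rw [hK]
          rintro _ ⟨a, ha, rfl⟩ _ ⟨b, hb, rfl⟩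
          rw [← map_mul, hcomm g (hne g hx) a ha b hb, map_mul]
      eq_of_mem := fun x y hx hy hy1 => by
        induction x using QuotientGroup.induction_on with
        | _ g =>
          rw [hK] at hy
          obtain ⟨c, hc, rfl⟩ := hy
          rw [hK g, show K (π c) = _ from hK c]
          congr 1
          refine (cent_eq_of_le_cent h (hne c hy1) fun t ht => ?_).symm
          exact mem_cent.2 (hcomm g (hne g hx) t ht c hc)
      conj := fun q x hx => by
        induction x using QuotientGroup.induction_on with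
        | _ g =>
          induction q using QuotientGroup.induction_on with
          | _ t =>
            rw [hK g, ← QuotientGroup.mk_inv, ← QuotientGroup.mk_mul, ← QuotientGroup.mk_mul, hK,
              cent_conj, Subgroup.map_map]
            ext y
            rw [Subgroup.mem_map, Subgroup.mem_pointwise_smul_iff_inv_smul_mem, Subgroup.mem_map]
            constructor
            · rintro ⟨w, hw, rfl⟩
              exact ⟨w, hw, by simp [hπ, MulAut.smul_def, mul_assoc]⟩
            · rintro ⟨w, hw, hwy⟩
              refine ⟨w, hw, ?_⟩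
              have e : y = MulAut.conj (t : G ⧸ center G) (π w) := by
                rw [hwy, ← MulAut.smul_def, smul_inv_smul]
              rw [e]
              simp [hπ]
      cent := fun p' q' hp' hq' hne' x y hx hxo hyo hc => by
        haveI := Fact.mk hp'
        haveI := Fact.mk hq'
        obtain ⟨a, rfl, ia, hia⟩ := exists_primary_lift x hxo
        obtain ⟨b, rfl, ib, hib⟩ := exists_primary_lift y hyo
        have hcom : b * a = a * b := by
          refine commute_of_mod_center ?_ ?_
          · rw [← QuotientGroup.eq_one_iff]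
            simp only [QuotientGroup.mk_mul, QuotientGroup.mk_inv]
            rw [hc]; group
          · rw [hia, hib]
            exact (((Nat.coprime_primes hp' hq').2 hne').pow_left _).pow_right _
        rw [hK]
        exact mem_map_of_mem π (mem_cent.2 hcom) }
  have hdvd : ∀ r : ℕ, r.Prime → (∃ w : G, w ∉ center G ∧ ∃ i, orderOf w = r ^ i) → r ∣ k := by
    rintro r hr ⟨w, hw, i, hi⟩
    haveI := Fact.mk hr
    obtain ⟨b, hb, hbc, j, hj⟩ := exists_noncentral_primary hn h hwp hw hi
    by_contra hnd
    have hmem := pow_index_mem ((center G).subgroupOf (centralizer ({wp} : Set G))) ⟨b, hb⟩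
    have hbk : b ^ k ∈ center G := mem_subgroupOf.1 hmem
    obtain ⟨l, hl⟩ := exists_pow_eq_self_of_coprime (x := b) (n := k) (by
      rw [hj]; exact Nat.Coprime.pow_right _ ((hr.coprime_iff_not_dvd).2 hnd).symm)
    exact hbc (hl ▸ pow_mem hbk l)
  have hpk := hdvd p hp ⟨wp, hwp, hwpo⟩
  have hqk := hdvd q hq ⟨wq, hwq, hwqo⟩
  exact lt_irrefl _ ((P.pow_factorization_lt hp hq hpq hpk hqk).trans
    (P.pow_factorization_lt hq hp hpq.symm hqk hpk))

omit hn in
/-- Powers of commuting elements with the same centraliser (Isaacs). -/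
theorem cent_eq_of_big {p : ℕ} [Fact p.Prime] (hall : ∀ g : G, ∃ i : ℕ, g ^ p ^ i ∈ center G)
    {g y : G} (hg : g ^ p ∉ center G) (hy : y ∈ centralizer ({g} : Set G)) (hyc : y ∉ center G) :
    centralizer ({g} : Set G) = centralizer ({y} : Set G) := by
  classical
  have hg0 : g ∉ center G := fun hc => hg (pow_mem hc p)
  have hgp := cent_eq_of_le_cent h hg (cent_le_cent_of_mem_zpowers (npow_mem_zpowers g p))
  obtain ⟨i, hi⟩ : ∃ i, y ^ p ^ i ∉ center G ∧ y ^ p ^ (i + 1) ∈ center G := by
    have hex := hall y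
    set j := Nat.find hex with hj
    have hjs := Nat.find_spec hex
    rcases Nat.eq_zero_or_pos j with h0 | hpos
    · rw [← hj, h0, pow_zero, pow_one] at hjs
      exact absurd hjs hyc
    · refine ⟨j - 1, Nat.find_min hex (by omega), ?_⟩
      rw [show j - 1 + 1 = j by omega]
      exact hjs
  set w := y ^ p ^ i with hw
  have hwp : w ^ p ∈ center G := by rw [hw, ← pow_mul, ← pow_succ]; exact hi.2
  have hyw := cent_eq_of_le_cent h hi.1 (cent_le_cent_of_mem_zpowers (npow_mem_zpowers y (p ^ i)))
  rw [hyw]
  have hwg : w ∈ centralizer ({g} : Set G) := pow_mem hy _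
  have hcomm : Commute g w := (mem_cent.1 hwg).symm
  have h1 : centralizer ({(g * w) ^ p} : Set G) = centralizer ({g} : Set G) := by
    rw [hcomm.mul_pow, show g ^ p * w ^ p = w ^ p * g ^ p from (mem_center_iff.1 hwp _),
      cent_mul_central hwp, ← hgp]
  have h2 : (g * w) ^ p ∉ center G := by
    rw [hcomm.mul_pow]
    intro hc
    exact hg (by simpa using mul_mem hc (inv_mem hwp))
  have h3 := cent_eq_of_le_cent h h2 (cent_le_cent_of_mem_zpowers (npow_mem_zpowers (g * w) p))
  rw [h1] at h3
  refine cent_eq_of_le_cent h hi.1 fun t ht => ?_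
  have ht' : t * (g * w) = g * w * t := mem_cent.1 (h3 ▸ ht)
  rw [mem_cent]
  have htg : t * g = g * t := mem_cent.1 ht
  calc t * w = g⁻¹ * (g * t) * w := by group
    _ = g⁻¹ * (t * (g * w)) := by rw [← htg]; group
    _ = g⁻¹ * (g * w * t) := by rw [ht']
    _ = w * t := by group

end Cfsg.Agent.Lib.ClassSizeIto
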